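import Groth.Prelude.Def_ConstAct2

/-!
# Comodule algebras over the function algebra of a finite group are group actions
-/

set_option autoImplicit false
set_option linter.unusedSectionVars false
set_option linter.unusedVariables false
set_option linter.unusedSimpArgs false
set_option linter.style.haveILetI false
set_option maxHeartbeats 400000

namespace Groth.Agent.Lib.Helper6.ConstActL

open TensorProduct

universe u

theorem mulSemiringAction_ext {M A : Type*} [Monoid M] [Semiring A] (a b : MulSemiringAction M A)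
    (h : ∀ (m : M) (x : A), a.toSMul.smul m x = b.toSMul.smul m x) : a = b := by
  obtain @⟨da, a1, a2⟩ := a
  obtain @⟨db, b1, b2⟩ := b
  obtain @⟨ma, a3, a4⟩ := da
  obtain @⟨mb, b3, b4⟩ := db
  obtain @⟨sga, a5⟩ := ma
  obtain @⟨sgb, b5⟩ := mb
  obtain @⟨sa, a6⟩ := sga
  obtain @⟨sb, b6⟩ := sgb
  obtain ⟨fa⟩ := sa
  obtain ⟨fb⟩ := sb
  have : fa = fb := funext fun m => funext fun x => h m x
  subst this
  rfl

section

variable (R : Type u) [CommRing R] (B : Type u) [CommRing B] [Algebra R B]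
  (Γ : Type u) [Group Γ] [Fintype Γ] [DecidableEq Γ]

/-- The component map `b ⊗ f ↦ f γ • b`, as an algebra map. -/
noncomputable def cmpA (γ : Γ) : B ⊗[R] ConstGrp.F R Γ →ₐ[R] B :=
  (Algebra.TensorProduct.rid R R B).toAlgHom.comp
    (Algebra.TensorProduct.map (AlgHom.id R B) (ConstGrp.ev R γ))

theorem cmpA_tmul (γ : Γ) (b : B) (f : ConstGrp.F R Γ) : cmpA R B Γ γ (b ⊗ₜ[R] f) = f γ • b := by
  unfold cmpA
  rw [AlgHom.comp_apply, Algebra.TensorProduct.map_tmul]
  simp

theorem cmpA_sum_tmul_e (γ : Γ) (c : Γ → B) :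
    cmpA R B Γ γ (∑ δ : Γ, c δ ⊗ₜ[R] ConstGrp.e R δ) = c γ := by
  rw [map_sum]
  simp only [cmpA_tmul, ConstGrp.e_apply]
  rw [Finset.sum_eq_single γ]
  · rw [if_pos rfl, one_smul]
  · intro δ _ hδ
    rw [if_neg (Ne.symm hδ), zero_smul]
  · intro h; exact absurd (Finset.mem_univ γ) h

theorem eq_sum_cmpA (x : B ⊗[R] ConstGrp.F R Γ) :
    x = ∑ γ : Γ, cmpA R B Γ γ x ⊗ₜ[R] ConstGrp.e R γ := by
  induction x using TensorProduct.induction_on with
  | zero => simp
  | tmul b f =>
    simp only [cmpA_tmul]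
    conv_lhs => rw [ConstGrp.eq_sum_smul_e f, TensorProduct.tmul_sum]
    refine Finset.sum_congr rfl fun γ _ => ?_
    rw [TensorProduct.smul_tmul]
  | add x y hx hy =>
    conv_lhs => rw [hx, hy]
    rw [← Finset.sum_add_distrib]
    refine Finset.sum_congr rfl fun γ _ => ?_
    rw [map_add, TensorProduct.add_tmul]

/-- The two-variable component map `b ⊗ (f ⊗ g) ↦ (f γ * g δ) • b`. -/
noncomputable def cmp2 (γ δ : Γ) : B ⊗[R] (ConstGrp.F R Γ ⊗[R] ConstGrp.F R Γ) →ₗ[R] B :=
  (TensorProduct.rid R B).toLinearMap ∘ₗ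
    LinearMap.lTensor B ((LinearMap.mul' R R) ∘ₗ
      TensorProduct.map (ConstGrp.ev R γ).toLinearMap (ConstGrp.ev R δ).toLinearMap)

theorem cmp2_tmul (γ δ : Γ) (b : B) (f g : ConstGrp.F R Γ) :
    cmp2 R B Γ γ δ (b ⊗ₜ[R] (f ⊗ₜ[R] g)) = (f γ * g δ) • b := by
  unfold cmp2
  simp

variable [HopfRep.Comod R (ConstGrp.F R Γ) B] [GLin.IsCoactAlg R (ConstGrp.F R Γ) B]

/-- The coaction. -/
noncomputable abbrev rho : B →ₗ[R] B ⊗[R] ConstGrp.F R Γ :=
  HopfRep.Comod.coact (k := R) (A := ConstGrp.F R Γ) (V := B)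

/-- The action of `γ`: the `γ`-component of the coaction. -/
noncomputable def act (γ : Γ) (b : B) : B := cmpA R B Γ γ (rho R B Γ b)

theorem rho_eq (b : B) : rho R B Γ b = ∑ γ : Γ, act R B Γ γ b ⊗ₜ[R] ConstGrp.e R γ :=
  eq_sum_cmpA R B Γ _

theorem act_one' (b : B) : act R B Γ 1 b = b := by
  have h := LinearMap.congr_fun
    (HopfRep.Comod.counit_comp (k := R) (A := ConstGrp.F R Γ) (V := B)) b
  rw [LinearMap.comp_apply] at h
  change LinearMap.lTensor B _ (rho R B Γ b) = b ⊗ₜ[R] (1 : R) at h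
  rw [rho_eq, map_sum] at h
  simp only [LinearMap.lTensor_tmul, ConstGrp.counit_e] at h
  have h2 := congrArg (TensorProduct.rid R B) h
  rw [map_sum] at h2
  simp only [TensorProduct.rid_tmul] at h2
  rw [Finset.sum_eq_single (1 : Γ)] at h2
  · rw [if_pos rfl, one_smul, one_smul] at h2
    exact h2
  · intro δ _ hδ
    rw [if_neg (Ne.symm hδ), zero_smul]
  · intro hh; exact absurd (Finset.mem_univ _) hh

theorem act_mul' (γ δ : Γ) (b : B) : act R B Γ (γ * δ) b = act R B Γ γ (act R B Γ δ b) := by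
  have h := LinearMap.congr_fun
    (HopfRep.Comod.coassoc (k := R) (A := ConstGrp.F R Γ) (V := B)) b
  rw [LinearMap.comp_apply, LinearMap.comp_apply, LinearMap.comp_apply] at h
  change (TensorProduct.assoc R B _ _) (LinearMap.rTensor _ (rho R B Γ) (rho R B Γ b)) =
    LinearMap.lTensor B _ (rho R B Γ b) at h
  have h2 := congrArg (cmp2 R B Γ γ δ) h
  rw [rho_eq R B Γ b, map_sum, map_sum, map_sum, map_sum, map_sum] at h2
  simp only [LinearMap.rTensor_tmul, LinearMap.lTensor_tmul, ConstGrp.comul_e] at h2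
  simp only [rho_eq R B Γ (act R B Γ _ b), TensorProduct.sum_tmul, TensorProduct.tmul_sum, map_sum,
    TensorProduct.assoc_tmul, cmp2_tmul, ConstGrp.e_apply] at h2
  -- LHS: ∑ x, ∑ y, ((if γ = y then 1 else 0) * (if δ = x then 1 else 0)) • act y (act x b)
  -- RHS: ∑ x, ∑ a, ((if γ = a then 1 else 0) * (if δ = a⁻¹ * x then 1 else 0)) • act x b
  have hL : (∑ x : Γ, ∑ y : Γ, ((if γ = y then (1 : R) else 0) * (if δ = x then (1 : R) else 0)) •
      act R B Γ y (act R B Γ x b)) = act R B Γ γ (act R B Γ δ b) := by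
    rw [Finset.sum_eq_single δ]
    · rw [Finset.sum_eq_single γ]
      · rw [if_pos rfl, if_pos rfl, one_mul, one_smul]
      · intro y _ hy
        rw [if_neg (Ne.symm hy), zero_mul, zero_smul]
      · intro hh; exact absurd (Finset.mem_univ _) hh
    · intro x _ hx
      refine Finset.sum_eq_zero fun y _ => ?_
      rw [if_neg (Ne.symm hx), mul_zero, zero_smul]
    · intro hh; exact absurd (Finset.mem_univ _) hh
  have hR : (∑ x : Γ, ∑ a : Γ, ((if γ = a then (1 : R) else 0) *
      (if δ = a⁻¹ * x then (1 : R) else 0)) • act R B Γ x b) = act R B Γ (γ * δ) b := by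
    rw [Finset.sum_eq_single (γ * δ)]
    · rw [Finset.sum_eq_single γ]
      · rw [if_pos rfl, if_pos (by group), one_mul, one_smul]
      · intro y _ hy
        rw [if_neg (Ne.symm hy), zero_mul, zero_smul]
      · intro hh; exact absurd (Finset.mem_univ _) hh
    · intro x _ hx
      refine Finset.sum_eq_zero fun a _ => ?_
      by_cases ha : γ = a
      · subst ha
        have : ¬ δ = γ⁻¹ * x := by
          intro hd; apply hx; rw [hd]; group
        rw [if_neg this, mul_zero, zero_smul]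
      · rw [if_neg ha, zero_mul, zero_smul]
    · intro hh; exact absurd (Finset.mem_univ _) hh
  rw [hL, hR] at h2
  exact h2.symm

theorem act_mul_elem (γ : Γ) (x y : B) :
    act R B Γ γ (x * y) = act R B Γ γ x * act R B Γ γ y := by
  unfold act
  rw [show rho R B Γ (x * y) = rho R B Γ x * rho R B Γ y from
    GLin.IsCoactAlg.coact_mul (k := R) (A := ConstGrp.F R Γ) x y, map_mul]

theorem act_one_elem (γ : Γ) : act R B Γ γ (1 : B) = 1 := by
  unfold act
  rw [show rho R B Γ (1 : B) = 1 from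
    GLin.IsCoactAlg.coact_one (k := R) (A := ConstGrp.F R Γ) (R := B), map_one]

theorem act_add (γ : Γ) (x y : B) : act R B Γ γ (x + y) = act R B Γ γ x + act R B Γ γ y := by
  unfold act
  rw [map_add, map_add]

theorem act_zero (γ : Γ) : act R B Γ γ (0 : B) = 0 := by
  unfold act
  rw [map_zero, map_zero]

theorem act_smul (γ : Γ) (r : R) (x : B) : act R B Γ γ (r • x) = r • act R B Γ γ x := by
  unfold act
  rw [map_smul, map_smul]

/-- The action of `Γ` on `B` defined by the coaction. -/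
@[reducible] noncomputable def theAction : MulSemiringAction Γ B where
  smul := act R B Γ
  one_smul := act_one' R B Γ
  mul_smul := act_mul' R B Γ
  smul_zero := act_zero R B Γ
  smul_add := act_add R B Γ
  smul_one := act_one_elem R B Γ
  smul_mul := act_mul_elem R B Γ

theorem theAction_smulComm :
    @SMulCommClass Γ R B (theAction R B Γ).toSMul _ :=
  @SMulCommClass.mk Γ R B (theAction R B Γ).toSMul _ (fun γ r x => act_smul R B Γ γ r x)

end

end Groth.Agent.Lib.Helper6.ConstActL
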